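import Groth.Agent.ProdRes7.Main
import Groth.Agent.TriCat.DerivedProducts
import Groth.Agent.TriCat.DerivedCoproducts

/-! Countable products in homotopy and derived categories, when countable products are exact. -/

set_option autoImplicit false
set_option backward.isDefEq.respectTransparency false

universe w v u v' u'

open CategoryTheory Category Limits

namespace Groth.Agent.ProdQ7

variable {A : Type u} [Category.{v} A] [Abelian A] [HasLimitsOfShape (Discrete ℕ) A]

/-- The quotient functor to the homotopy category preserves countable products. -/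
theorem preservesLimit_quotient (L : ℕ → CochainComplex A ℤ) :
    PreservesLimit (Discrete.functor L) (HomotopyCategory.quotient A (ComplexShape.up ℤ)) := by
  let q := HomotopyCategory.quotient A (ComplexShape.up ℤ)
  refine preservesLimit_of_preserves_limit_cone (productIsProduct L) ?_
  refine (Fan.isLimitMapConeEquiv q _ _).symm ?_
  have hlift : ∀ (s : Fan fun j => q.obj (L j)), ∃ l : s.pt ⟶ q.obj (∏ᶜ L),
      (∀ j, l ≫ q.map (Pi.π L j) = s.proj j) ∧
        ∀ m : s.pt ⟶ q.obj (∏ᶜ L), (∀ j, m ≫ q.map (Pi.π L j) = s.proj j) → m = l := by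
    rintro s
    obtain ⟨K, hK⟩ := HomotopyCategory.quotient_obj_surjective s.pt
    let e : q.obj K ≅ s.pt := eqToIso hK
    choose f hf using fun j => q.map_surjective (e.hom ≫ s.proj j)
    refine ⟨e.inv ≫ q.map (Pi.lift f), fun j => ?_, fun m hm => ?_⟩
    · rw [assoc, ← q.map_comp, Pi.lift_π, hf, e.inv_hom_id_assoc]
    · obtain ⟨g, hg⟩ := q.map_surjective (e.hom ≫ m)
      rw [Iso.eq_inv_comp, ← hg]
      refine TriCat.quotient_hom_ext_pi _ _ fun j => ?_
      show q.map _ = q.map _
      rw [q.map_comp, hg, Pi.lift_π, hf, assoc, hm]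
  exact Fan.IsLimit.mk _ (fun s => (hlift s).choose) (fun s j => (hlift s).choose_spec.1 j)
    (fun s m hm => (hlift s).choose_spec.2 m hm)

/-- An additive functor which preserves countable products preserves them on homotopy categories. -/
theorem preservesLimit_mapHomotopyCategory {B : Type u'} [Category.{v'} B] [Abelian B]
    [HasLimitsOfShape (Discrete ℕ) B] (F : A ⥤ B) [F.Additive]
    [PreservesLimitsOfShape (Discrete ℕ) F] (Y : ℕ → HomotopyCategory A (ComplexShape.up ℤ)) :
    PreservesLimit (Discrete.functor Y) (F.mapHomotopyCategory (ComplexShape.up ℤ)) := by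
  let q := HomotopyCategory.quotient A (ComplexShape.up ℤ)
  choose L hL using fun j => HomotopyCategory.quotient_obj_surjective (Y j)
  obtain rfl : Y = fun j => q.obj (L j) := funext fun j => (hL j).symm
  have := preservesLimit_quotient L
  have : PreservesLimitsOfShape (Discrete ℕ) (F.mapHomologicalComplex (ComplexShape.up ℤ)) := by
    refine HomologicalComplex.preservesLimitsOfShape_of_eval _ fun i => ?_
    exact inferInstanceAs (PreservesLimitsOfShape (Discrete ℕ)
      (HomologicalComplex.eval A (ComplexShape.up ℤ) i ⋙ F))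
  let FL : ℕ → CochainComplex B ℤ := fun j => (F.mapHomologicalComplex (ComplexShape.up ℤ)).obj (L j)
  have := preservesLimit_quotient FL
  refine preservesLimit_of_preserves_limit_cone ((Fan.isLimitMapConeEquiv q L _)
    (isLimitOfPreserves q (productIsProduct L))) ?_
  refine (Fan.isLimitMapConeEquiv (F.mapHomotopyCategory (ComplexShape.up ℤ)) _ _).symm ?_
  have h1 := (Fan.isLimitMapConeEquiv (F.mapHomologicalComplex (ComplexShape.up ℤ)) L _)
    (isLimitOfPreserves (F.mapHomologicalComplex (ComplexShape.up ℤ)) (productIsProduct L))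
  have h2 := (Fan.isLimitMapConeEquiv (HomotopyCategory.quotient B (ComplexShape.up ℤ)) FL _)
    (isLimitOfPreserves (HomotopyCategory.quotient B (ComplexShape.up ℤ)) h1)
  exact h2

variable [HasExactLimitsOfShape (Discrete ℕ) A]

/-- Countable products of quasi-isomorphisms are quasi-isomorphisms. -/
theorem quasiIso_piMap {K L : ℕ → CochainComplex A ℤ} (s : ∀ j, K j ⟶ L j)
    (hs : ∀ j, QuasiIso (s j)) : QuasiIso (Limits.Pi.map s) := by
  have hmk : ∀ (M : ℕ → CochainComplex A ℤ), ∃ e : ProdRes7.prodCx M ≅ ∏ᶜ M,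
      ∀ n, e.hom ≫ Pi.π M n = ProdRes7.proj M n := fun M => by
    refine ⟨⟨Pi.lift (ProdRes7.proj M), ProdRes7.liftC (Pi.π M), ?_, ?_⟩, fun n => Pi.lift_π _ _⟩
    · exact ProdRes7.proj_hom_ext fun n => by simp
    · exact Pi.hom_ext _ _ fun n => by simp
  have hex : ∀ (M : ℕ → CochainComplex A ℤ) (i : ℤ) {T : A} (a : ∀ n, T ⟶ (M n).homology i),
      ∃! x : T ⟶ (∏ᶜ M).homology i, ∀ n, x ≫ HomologicalComplex.homologyMap (Pi.π M n) i = a n := by
    intro M i T a
    obtain ⟨e, he⟩ := hmk M
    obtain ⟨x, hx, hu⟩ := ProdRes7.exists_unique_homology i a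
    refine ⟨x ≫ HomologicalComplex.homologyMap e.hom i, fun n => ?_, fun y hy => ?_⟩
    · rw [assoc, ← HomologicalComplex.homologyMap_comp, he]
      exact hx n
    · rw [← hu (y ≫ HomologicalComplex.homologyMap e.inv i) fun n => by
          rw [assoc, ← HomologicalComplex.homologyMap_comp, ← he n, e.inv_hom_id_assoc]
          exact hy n,
        assoc, ← HomologicalComplex.homologyMap_comp, e.inv_hom_id,
        HomologicalComplex.homologyMap_id, comp_id]
  refine ⟨fun i => ?_⟩
  rw [quasiIsoAt_iff_isIso_homologyMap]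
  have := fun j => (quasiIsoAt_iff_isIso_homologyMap (s j) i).1 ((hs j).quasiIsoAt i)
  have hc : ∀ n, HomologicalComplex.homologyMap (Limits.Pi.map s) i ≫
      HomologicalComplex.homologyMap (Pi.π L n) i =
      HomologicalComplex.homologyMap (Pi.π K n) i ≫ HomologicalComplex.homologyMap (s n) i := fun n => by
    rw [← HomologicalComplex.homologyMap_comp, ← HomologicalComplex.homologyMap_comp, Pi.map_π]
  obtain ⟨g, hg, -⟩ := hex K i fun n => HomologicalComplex.homologyMap (Pi.π L n) i ≫
    inv (HomologicalComplex.homologyMap (s n) i)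
  refine ⟨g, (hex K i fun n => HomologicalComplex.homologyMap (Pi.π K n) i).unique (fun n => ?_)
    (fun n => id_comp _), (hex L i fun n => HomologicalComplex.homologyMap (Pi.π L n) i).unique (fun n => ?_)
    (fun n => id_comp _)⟩
  · rw [assoc, hg, reassoc_of% (hc n), IsIso.hom_inv_id, comp_id]
  · rw [assoc, hc, reassoc_of% (hg n), IsIso.inv_hom_id, comp_id]

variable [HasDerivedCategory.{w} A]

/-- A morphism to a product which dies on each factor in the derived category is zero there. -/
theorem pi_Q_hom_ext {L : ℕ → CochainComplex A ℤ} {X : DerivedCategory A}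
    (g : X ⟶ DerivedCategory.Q.obj (∏ᶜ L))
    (hg : ∀ j, g ≫ DerivedCategory.Q.map (Pi.π L j) = 0) : g = 0 := by
  let M := DerivedCategory.Q.objPreimage X
  let eX : DerivedCategory.Q.obj M ≅ X := DerivedCategory.Q.objObjPreimageIso X
  obtain ⟨M', r, hr, f, hfr⟩ := DerivedCategory.right_fac (eX.hom ≫ g)
  have hf : ∀ j, DerivedCategory.Q.map (f ≫ Pi.π L j) = 0 := fun j => by
    rw [← cancel_epi (inv (DerivedCategory.Q.map r)), comp_zero, Functor.map_comp, ← assoc, ← hfr,
      assoc, hg, comp_zero]
  have hh : ∀ j, ∃ (W : CochainComplex A ℤ) (t : L j ⟶ W), QuasiIso t ∧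
      (HomotopyCategory.quotient A (ComplexShape.up ℤ)).map ((f ≫ Pi.π L j) ≫ t) = 0 := by
    intro j
    have h : DerivedCategory.Qh.map ((HomotopyCategory.quotient A (ComplexShape.up ℤ)).map (f ≫ Pi.π L j)) =
        DerivedCategory.Qh.map 0 := by
      rw [Functor.map_zero, ← cancel_mono ((DerivedCategory.quotientCompQhIso A).hom.app _), zero_comp]
      refine ((DerivedCategory.quotientCompQhIso A).hom.naturality (f ≫ Pi.π L j)).trans ?_
      rw [hf, comp_zero]
    obtain ⟨W, t, ht, hcomp⟩ :=
      (MorphismProperty.map_eq_iff_postcomp DerivedCategory.Qh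
        (HomotopyCategory.quasiIso A (ComplexShape.up ℤ)) _ _).1 h
    obtain ⟨W, rfl⟩ := HomotopyCategory.quotient_obj_surjective W
    obtain ⟨t, rfl⟩ := (HomotopyCategory.quotient _ _).map_surjective t
    rw [HomotopyCategory.quotient_map_mem_quasiIso_iff] at ht
    exact ⟨W, t, ht, by rw [Functor.map_comp, hcomp, zero_comp]⟩
  choose W t ht hz using hh
  have h0 : (HomotopyCategory.quotient A (ComplexShape.up ℤ)).map (f ≫ Limits.Pi.map t) =
      (HomotopyCategory.quotient A (ComplexShape.up ℤ)).map 0 :=
    TriCat.quotient_hom_ext_pi _ _ fun j => by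
      rw [assoc, Pi.map_π, ← assoc, hz, zero_comp, Functor.map_zero]
  have h1 : DerivedCategory.Q.map (f ≫ Limits.Pi.map t) = 0 := by
    rw [← cancel_epi ((DerivedCategory.quotientCompQhIso A).hom.app _), comp_zero]
    refine ((DerivedCategory.quotientCompQhIso A).hom.naturality (f ≫ Limits.Pi.map t)).symm.trans ?_
    rw [Functor.comp_map, h0, Functor.map_zero, Functor.map_zero, zero_comp]
  have : IsIso (DerivedCategory.Q.map (Limits.Pi.map t)) :=
    (DerivedCategory.isIso_Q_map_iff_quasiIso _ _).2 (quasiIso_piMap t ht)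
  rw [Functor.map_comp] at h1
  rw [← cancel_epi eX.hom, comp_zero, hfr,
    show DerivedCategory.Q.map f = 0 from (cancel_mono _).1 (h1.trans zero_comp.symm), comp_zero]

/-- The localisation functor preserves countable products of complexes. -/
theorem preservesLimit_Q (L : ℕ → CochainComplex A ℤ) :
    PreservesLimit (Discrete.functor L) (DerivedCategory.Q (C := A)) := by
  let Q : CochainComplex A ℤ ⥤ DerivedCategory A := DerivedCategory.Q
  refine preservesLimit_of_preserves_limit_cone (productIsProduct L) ?_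
  refine (Fan.isLimitMapConeEquiv Q _ _).symm ?_
  have hlift : ∀ (s : Fan fun j => Q.obj (L j)), ∃ l : s.pt ⟶ Q.obj (∏ᶜ L),
      ∀ j, l ≫ Q.map (Pi.π L j) = s.proj j := by
    intro s
    let eX := Q.objObjPreimageIso s.pt
    choose L' f t ht hf using fun j => DerivedCategory.left_fac (eX.hom ≫ s.proj j)
    have : IsIso (Q.map (Limits.Pi.map t)) := (DerivedCategory.isIso_Q_map_iff_quasiIso _ _).2
      (quasiIso_piMap t fun j => (DerivedCategory.isIso_Q_map_iff_quasiIso _ _).1 (ht j))
    refine ⟨eX.inv ≫ Q.map (Pi.lift f) ≫ inv (Q.map (Limits.Pi.map t)), fun j => ?_⟩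
    have := ht j
    have h1 : inv (Q.map (Limits.Pi.map t)) ≫ Q.map (Pi.π L j) = Q.map (Pi.π L' j) ≫ inv (Q.map (t j)) := by
      rw [IsIso.inv_comp_eq, ← Q.map_comp_assoc, Pi.map_π, Q.map_comp_assoc, IsIso.hom_inv_id, comp_id]
    rw [assoc, assoc, h1, ← Q.map_comp_assoc, Pi.lift_π, ← hf, Iso.inv_hom_id_assoc]
  exact Fan.IsLimit.mk _ (fun s => (hlift s).choose) (fun s j => (hlift s).choose_spec j)
    (fun s m hm => sub_eq_zero.1 (pi_Q_hom_ext _ fun j => by
      rw [Preadditive.sub_comp, sub_eq_zero]
      exact (hm j).trans ((hlift s).choose_spec j).symm))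

/-- `Qh` preserves countable products. -/
theorem preservesLimit_Qh (Y : ℕ → HomotopyCategory A (ComplexShape.up ℤ)) :
    PreservesLimit (Discrete.functor Y) (DerivedCategory.Qh (C := A)) := by
  let q := HomotopyCategory.quotient A (ComplexShape.up ℤ)
  choose L hL using fun j => HomotopyCategory.quotient_obj_surjective (Y j)
  obtain rfl : Y = fun j => q.obj (L j) := funext fun j => (hL j).symm
  have := preservesLimit_quotient L
  have := preservesLimit_Q L
  refine preservesLimit_of_preserves_limit_cone ((Fan.isLimitMapConeEquiv q L _)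
    (isLimitOfPreserves q (productIsProduct L))) ?_
  refine (Fan.isLimitMapConeEquiv (DerivedCategory.Qh (C := A)) _ _).symm ?_
  have : PreservesLimit (Discrete.functor L) (q ⋙ DerivedCategory.Qh) :=
    preservesLimit_of_natIso _ (DerivedCategory.quotientCompQhIso A).symm
  exact (Fan.isLimitMapConeEquiv (q ⋙ DerivedCategory.Qh) L _)
    (isLimitOfPreserves (q ⋙ DerivedCategory.Qh) (productIsProduct L))

end Groth.Agent.ProdQ7
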